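import Cfsg.Agent.Lib.Char.Section
import Cfsg.Agent.Lib.Core.PSolv

/-!
Pairs of elements of order `p` generating `p`-solvable subgroups: a class multiplication count
in the principal block.
-/

set_option maxHeartbeats 400000
set_option linter.unusedSectionVars false

namespace Cfsg.Agent.Lib.Char.Pair

open Cfsg.Agent.Lib.Char Cfsg.Agent.Lib.Core Finset ComplexConjugate

section Grp
variable {p : ℕ} [hp : Fact p.Prime] {G : Type*} [Group G] [Finite G]

/-- the `p`-part of `g` has order `p` -/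
def InT (p : ℕ) {G : Type*} [Group G] (g : G) : Prop := ∃ z, orderOf z = p ∧ PSec p g z

theorem inT_of {g : G} (h1 : ¬ PReg p g) (h2 : PReg p (g ^ p)) : InT p g := by
  obtain ⟨u, y, -, -, hc, ⟨k, hu⟩, hy, rfl⟩ := exists_ppart (p := p) g
  have h3 : u ^ p = 1 := by
    rw [hc.mul_pow] at h2
    have hy' : PReg p (y ^ p) := fun h => hy (h.trans (orderOf_pow_dvd p))
    have h4 : PSec p (u ^ p * y ^ p) (u ^ p) := pSec_mul_of_commute (hc.pow_pow p p) hy'
    by_contra hne
    exact not_pReg_of_pSec h4 (k := k) (by rw [← pow_mul, mul_comm, pow_mul, hu, one_pow]) hne h2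
  have h4 : u ≠ 1 := by rintro rfl; exact h1 (by simpa using hy)
  exact ⟨u, orderOf_eq_prime h3 h4, pSec_mul_of_commute hc hy⟩

/-- all `p`-subgroups are commutative -/
def AbP (p : ℕ) (G : Type*) [Group G] : Prop :=
  ∀ Q : Subgroup G, IsPGroup p Q → ∀ x ∈ Q, ∀ y ∈ Q, x * y = y * x

theorem abP_of_sylow (P : Sylow p G)
    (h : ∀ x ∈ (P : Subgroup G), ∀ y ∈ (P : Subgroup G), x * y = y * x) : AbP p G := by
  intro Q hQ x hx y hy
  obtain ⟨S, hS⟩ := hQ.exists_le_sylow
  obtain ⟨g, rfl⟩ := MulAction.exists_smul_eq G P S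
  have h1 := hS hx
  have h2 := hS hy
  rw [Sylow.coe_subgroup_smul, Subgroup.mem_pointwise_smul_iff_inv_smul_mem] at h1 h2
  have h3 := h _ h1 _ h2
  rw [← smul_mul', ← smul_mul'] at h3
  exact smul_left_cancel _ h3

theorem AbP.of_injective {H : Type*} [Group H] (h : AbP p G) (f : H →* G)
    (hf : Function.Injective f) : AbP p H := fun Q hQ x hx y hy => by
  apply hf
  rw [map_mul, map_mul]
  exact h _ (hQ.map f) _ (Subgroup.mem_map_of_mem f hx) _ (Subgroup.mem_map_of_mem f hy)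

theorem AbP.of_surjective {H : Type*} [Group H] (h : AbP p G) (f : G →* H)
    (hf : Function.Surjective f) : AbP p H := by
  haveI : Finite H := Finite.of_surjective f hf
  obtain ⟨P⟩ : Nonempty (Sylow p G) := inferInstance
  refine abP_of_sylow (P.mapSurjective hf) ?_
  rintro _ ⟨x, hx, rfl⟩ _ ⟨y, hy, rfl⟩
  rw [← map_mul, ← map_mul, h _ P.isPGroup' x hx y hy]

theorem AbP.mem_pCore (h : AbP p G) (hs : PSolv p (⊤ : Subgroup G)) (hO : pPrimeCore p G = ⊥)
    {x : G} {k : ℕ} (hx : x ^ p ^ k = 1) : x ∈ pCore p G := by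
  apply hs.centralizer_pCore_le hO
  obtain ⟨S, hS⟩ := (Transfer.isPGroup_zpowers hx).exists_le_sylow
  rw [Subgroup.mem_centralizer_iff]
  intro y hy
  exact h _ S.isPGroup' y (pCore_le_sylow S hy) x (hS (Subgroup.mem_zpowers x))

theorem pair_aux (h : AbP p G) (hs : PSolv p (⊤ : Subgroup G)) {a b : G} (ha : orderOf a = p)
    (hb : orderOf b = p) {j j' : ℕ} (hj : j < p) (hj' : j' < p)
    (h1 : PReg p (a * b ^ j) ∨ ¬ PReg p ((a * b ^ j) ^ p))
    (h2 : PReg p (a * b ^ j') ∨ ¬ PReg p ((a * b ^ j') ^ p)) : j = j' := by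
  let π := QuotientGroup.mk' (pPrimeCore p G)
  have hπ : Function.Surjective π := QuotientGroup.mk'_surjective _
  have hab := h.of_surjective π hπ
  have hap : π a ^ p = 1 := by
    rw [← map_pow, show a ^ p = 1 by rw [← ha, pow_orderOf_eq_one], map_one]
  have hbp : π b ^ p = 1 := by
    rw [← map_pow, show b ^ p = 1 by rw [← hb, pow_orderOf_eq_one], map_one]
  have hc : Commute (π a) (π b) :=
    hab _ pCore_isPGroup _ (hab.mem_pCore (hs.quotient _) pPrimeCore_quotient (k := 1)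
      (by simpa using hap)) _ (hab.mem_pCore (hs.quotient _) pPrimeCore_quotient (k := 1)
      (by simpa using hbp))
  have hker : ∀ g, π g = 1 → PReg p g := fun g hg hd => by
    have : g ∈ pPrimeCore p G := (QuotientGroup.eq_one_iff g).1 hg
    exact pPrimeCore_not_dvd (hd.trans (Subgroup.orderOf_dvd_natCard _ this))
  have key : ∀ i, PReg p (a * b ^ i) ∨ ¬ PReg p ((a * b ^ i) ^ p) → π a * π b ^ i = 1 := by
    intro i hi
    have h3 : (π a * π b ^ i) ^ p = 1 := by
      rw [(hc.pow_right i).mul_pow, hap, ← pow_mul, mul_comm i, pow_mul, hbp, one_pow, one_mul]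
    rcases hi with hi | hi
    · by_contra hne
      apply hi
      have := orderOf_map_dvd π (a * b ^ i)
      rwa [map_mul, map_pow, orderOf_eq_prime h3 hne] at this
    · exact absurd (hker _ (by rw [map_pow, map_mul, map_pow, h3])) hi
  have hb1 : π b ≠ 1 := fun h => hker b h (by rw [hb])
  have h3 : π b ^ j = π b ^ j' := mul_left_cancel ((key j h1).trans (key j' h2).symm)
  have h4 := orderOf_eq_prime hbp hb1
  exact pow_injOn_Iio_orderOf (by rw [h4]; exact hj) (by rw [h4]; exact hj') h3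

theorem pair_unique (h : AbP p G) {a b : G} (ha : orderOf a = p) (hb : orderOf b = p)
    (hs : PSolv p (Subgroup.closure ({a, b} : Set G))) {j j' : ℕ} (hj : j < p) (hj' : j' < p)
    (h1 : ¬ InT p (a * b ^ j)) (h2 : ¬ InT p (a * b ^ j')) : j = j' := by
  set H := Subgroup.closure ({a, b} : Set G)
  let a' : H := ⟨a, Subgroup.subset_closure (by simp)⟩
  let b' : H := ⟨b, Subgroup.subset_closure (by simp)⟩
  have key : ∀ i, ¬ InT p (a * b ^ i) →
      PReg p (a' * b' ^ i) ∨ ¬ PReg p ((a' * b' ^ i) ^ p) := by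
    intro i hi
    by_contra hc
    push Not at hc
    exact hi (inT_of (fun h => hc.1 ((pReg_coe_iff _).1 h)) ((pReg_coe_iff _).2 hc.2))
  exact pair_aux (h.of_injective H.subtype H.subtype_injective) (psolv_top_iff.2 hs)
    (a := a') (b := b') (by rw [← Subgroup.orderOf_coe]; exact ha)
    (by rw [← Subgroup.orderOf_coe]; exact hb) hj hj' (key j h1) (key j' h2)

theorem orderOf_pow_eq {a : G} (ha : orderOf a = p) {j : ℕ} (hj : ¬ p ∣ j) :
    orderOf (a ^ j) = p := by
  rw [← ha]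
  apply Nat.Coprime.orderOf_pow
  rw [ha]
  exact hp.out.coprime_iff_not_dvd.2 hj

theorem pow_inj {a b : G} (ha : orderOf a = p) (hb : orderOf b = p) {j : ℕ} (hj : ¬ p ∣ j)
    (h : a ^ j = b ^ j) : a = b := by
  obtain ⟨m, hm⟩ := exists_pow_pow_eq (G := G) hj 1
  rw [← hm a (by rw [pow_one, ← ha, pow_orderOf_eq_one]), h,
    hm b (by rw [pow_one, ← hb, pow_orderOf_eq_one])]

end Grp

section Chars
variable {p : ℕ} [hp : Fact p.Prime] {G : Type*} [Group G] [Fintype G]

/-- the elements of order `p` -/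
noncomputable def DD (p : ℕ) (G : Type*) [Group G] [Fintype G] : Finset G :=
  univ.filter fun g => orderOf g = p

theorem mem_DD {g : G} : g ∈ DD p G ↔ orderOf g = p := by simp [DD]

theorem sum_DD_pow {M : Type*} [AddCommMonoid M] (F : G → M) {j : ℕ} (hj : ¬ p ∣ j) :
    ∑ b ∈ DD p G, F (b ^ j) = ∑ b ∈ DD p G, F b := by
  classical
  have hinj : Set.InjOn (fun b : G => b ^ j) (DD p G) := fun a ha b hb h =>
    pow_inj (mem_DD.1 ha) (mem_DD.1 hb) hj h
  have himg : (DD p G).image (fun b => b ^ j) = DD p G := by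
    apply eq_of_subset_of_card_le
    · intro x hx
      obtain ⟨b, hb, rfl⟩ := mem_image.1 hx
      exact mem_DD.2 (orderOf_pow_eq (mem_DD.1 hb) hj)
    · rw [card_image_of_injOn hinj]
  conv_rhs => rw [← himg, sum_image hinj]

theorem sum_DD_inv {M : Type*} [AddCommMonoid M] (F : G → M) :
    ∑ b ∈ DD p G, F b⁻¹ = ∑ b ∈ DD p G, F b :=
  sum_bij' (fun b _ => b⁻¹) (fun b _ => b⁻¹) (fun b hb => by simpa [mem_DD] using hb)
    (fun b hb => by simpa [mem_DD] using hb) (by simp) (by simp) (by simp)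

/-- the sum of a character over the elements of order `p` -/
noncomputable def sig (p : ℕ) (i : Irr G) : ℂ := ∑ a ∈ DD p G, chi i a

theorem sig_real (i : Irr G) : (((sig p i).re : ℝ) : ℂ) = sig p i := by
  rw [← Complex.conj_eq_iff_re, sig, map_sum, ← sum_DD_inv]
  exact sum_congr rfl fun a _ => by rw [← chi_inv, inv_inv]

theorem sum_sum_chi_mul (i : Irr G) :
    ∑ a ∈ DD p G, ∑ b ∈ DD p G, chi i (a * b) = sig p i ^ 2 / deg i := by
  have hG := card_ne_zero' (G := G)
  have h1 : ∀ a x : G, ∑ b ∈ DD p G, chi i (a * (x * b * x⁻¹)) = ∑ b ∈ DD p G, chi i (a * b) := by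
    intro a x
    refine sum_bij' (fun b _ => x * b * x⁻¹) (fun b _ => x⁻¹ * b * x) (fun b hb => ?_)
      (fun b hb => ?_) (fun b _ => by group) (fun b _ => by group) (fun b _ => rfl)
    · rw [mem_DD] at hb ⊢
      rw [← hb]; exact (MulAut.conj x).orderOf_eq b
    · rw [mem_DD] at hb ⊢
      rw [← hb]; simpa using (MulAut.conj x⁻¹).orderOf_eq b
  apply mul_left_cancel₀ hG
  calc (Fintype.card G : ℂ) * ∑ a ∈ DD p G, ∑ b ∈ DD p G, chi i (a * b)
      = ∑ a ∈ DD p G, ∑ x : G, ∑ b ∈ DD p G, chi i (a * (x * b * x⁻¹)) := by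
        rw [mul_sum]
        refine sum_congr rfl fun a _ => ?_
        simp only [h1, sum_const, card_univ, nsmul_eq_mul]
    _ = ∑ a ∈ DD p G, ∑ b ∈ DD p G, Fintype.card G * chi i a * chi i b / deg i := by
        refine sum_congr rfl fun a _ => ?_
        rw [sum_comm]
        exact sum_congr rfl fun b _ => sum_chi_mul_conj i a b
    _ = _ := by
        rw [sig, sq, sum_mul_sum, sum_div, mul_sum]
        refine sum_congr rfl fun a _ => ?_
        rw [sum_div, mul_sum]
        exact sum_congr rfl fun b _ => by ring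

open Classical in
theorem sum_sig_chi {q k : ℕ}
    (hC : ∀ z : G, orderOf z = p → HasNormalPComplement p (Subgroup.centralizer {z}) ∧
      (pResidual p (Subgroup.centralizer ({z} : Set G))).index = q)
    (hk : ∀ z : G, orderOf z = p → #(univ.filter (IsConj z)) = k) (g : G) :
    ∑ i ∈ B0 p G, sig p i * chi i g = if InT p g then (k * q : ℂ) else 0 := by
  have h1 : ∑ i ∈ B0 p G, sig p i * chi i g =
      ∑ a ∈ DD p G, ∑ i ∈ B0 p G, chi i g * chi i a⁻¹ := by
    rw [sum_comm]
    refine sum_congr rfl fun i _ => ?_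
    rw [← mul_sum, sum_DD_inv, mul_comm, sig]
  have hpow : ∀ z : G, orderOf z = p → z ^ p ^ 1 = 1 := fun z hz => by
    rw [pow_one, ← hz, pow_orderOf_eq_one]
  rw [h1]
  split_ifs with hg
  · obtain ⟨z, hz, hgz⟩ := hg
    have h2 : ∀ a ∈ DD p G, ∑ i ∈ B0 p G, chi i g * chi i a⁻¹ = if IsConj z a then (q : ℂ) else 0 := by
      intro a ha
      rw [mem_DD] at ha
      split_ifs with hc
      · rw [← (hC a ha).2, ← B0_column_norm (hpow a ha) (hC a ha).1]
        exact sum_congr rfl fun i hi => by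
          rw [chi_eq_of_pSec (hpow a ha) (hC a ha).1 (hgz.trans (.of_isConj hc)) hi]
      · exact B0_orthogonality fun h => hc ((hgz.symm.trans h).isConj (hpow z hz) (hpow a ha))
    rw [sum_congr rfl h2, ← sum_filter, sum_const, nsmul_eq_mul, ← hk z hz]
    congr 3
    ext a
    simp only [mem_filter, mem_univ, true_and, and_iff_right_iff_imp, mem_DD]
    intro hc
    obtain ⟨c, rfl⟩ := isConj_iff.1 hc
    rw [← hz]; exact (MulAut.conj c).orderOf_eq z
  · exact sum_eq_zero fun a ha => B0_orthogonality fun h => hg ⟨a, mem_DD.1 ha, h⟩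

open Classical in
theorem count_ge
    (hpair : ∀ a b : G, orderOf a = p → orderOf b = p → ∀ j j', j < p → j' < p →
      ¬ InT p (a * b ^ j) → ¬ InT p (a * b ^ j') → j = j') :
    ((p : ℝ) - 2) * #(DD p G) ^ 2 ≤
      ((p : ℝ) - 1) * ∑ a ∈ DD p G, ∑ b ∈ DD p G, if InT p (a * b) then (1 : ℝ) else 0 := by
  have hp1 := hp.out.one_le
  have h1 : ∀ j ∈ Ico 1 p, ∑ a ∈ DD p G, ∑ b ∈ DD p G, (if InT p (a * b) then (1 : ℝ) else 0) =
      ∑ a ∈ DD p G, ∑ b ∈ DD p G, if InT p (a * b ^ j) then (1 : ℝ) else 0 := by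
    intro j hj
    rw [mem_Ico] at hj
    refine sum_congr rfl fun a _ => ?_
    rw [sum_DD_pow (fun b => if InT p (a * b) then (1 : ℝ) else 0)
      (Nat.not_dvd_of_pos_of_lt hj.1 hj.2)]
  have h2 := sum_congr rfl h1
  rw [sum_const, Nat.card_Ico, nsmul_eq_mul, Nat.cast_sub hp1, Nat.cast_one] at h2
  rw [h2, sum_comm]
  have h3 : ((p : ℝ) - 2) * #(DD p G) ^ 2 = ∑ a ∈ DD p G, ∑ b ∈ DD p G, ((p : ℝ) - 2) := by
    simp only [sum_const, nsmul_eq_mul]; ring
  rw [h3]
  refine sum_le_sum fun a ha => ?_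
  rw [sum_comm]
  refine sum_le_sum fun b hb => ?_
  rw [mem_DD] at ha hb
  have h4 : #((Ico 1 p).filter fun j => ¬ InT p (a * b ^ j)) ≤ 1 := by
    rw [card_le_one]
    intro j hj j' hj'
    simp only [mem_filter, mem_Ico] at hj hj'
    exact hpair a b ha hb j j' hj.1.2 hj'.1.2 hj.2 hj'.2
  have h5 := card_filter_add_card_filter_not (s := Ico 1 p) (fun j => InT p (a * b ^ j))
  rw [Nat.card_Ico] at h5
  rw [sum_boole]
  have h6 : p ≤ #((Ico 1 p).filter fun j => InT p (a * b ^ j)) + 2 := by omega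
  have h7 : (p : ℝ) ≤ #((Ico 1 p).filter fun j => InT p (a * b ^ j)) + 2 := by exact_mod_cast h6
  linarith

open Classical in
/-- The class multiplication inequality. -/
theorem core {q k : ℕ} (hp3 : 3 ≤ p)
    (hC : ∀ z : G, orderOf z = p → HasNormalPComplement p (Subgroup.centralizer {z}) ∧
      (pResidual p (Subgroup.centralizer ({z} : Set G))).index = q)
    (hk : ∀ z : G, orderOf z = p → #(univ.filter (IsConj z)) = k)
    (hpair : ∀ a b : G, orderOf a = p → orderOf b = p → ∀ j j', j < p → j' < p →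
      ¬ InT p (a * b ^ j) → ¬ InT p (a * b ^ j') → j = j')
    (hD : (DD p G).Nonempty)
    (hb : ∀ i ∈ B0 p G, i ≠ triv G →
      2 * ((p : ℝ) - 1) * (sig p i).re ≤ ((p : ℝ) - 2) * #(DD p G) * deg i) :
    (k : ℝ) * q * (p - 2) < #(DD p G) * p := by
  set n : ℝ := (#(DD p G) : ℝ) with hn
  have hn0 : 0 < n := by rw [hn]; exact_mod_cast hD.card_pos
  set s : Irr G → ℝ := fun i => (sig p i).re with hs
  have hsig : ∀ i, sig p i = s i := fun i => (sig_real i).symm
  have hd : ∀ i : Irr G, (0 : ℝ) < deg i := fun i => by exact_mod_cast deg_pos i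
  have hst : s (triv G) = n := by simp [hs, sig, hn]
  have hf := sum_sig_chi hC hk
  set N : ℝ := ∑ a ∈ DD p G, ∑ b ∈ DD p G, if InT p (a * b) then (1 : ℝ) else 0 with hN
  have e1 : ∑ i ∈ B0 p G, s i ^ 3 / deg i = k * q * N := by
    have h1 : ∑ a ∈ DD p G, ∑ b ∈ DD p G, ∑ i ∈ B0 p G, sig p i * chi i (a * b) =
        ∑ i ∈ B0 p G, sig p i ^ 3 / deg i := by
      simp_rw [sum_comm (s := DD p G) (t := B0 p G)]
      refine sum_congr rfl fun i _ => ?_
      simp only [← mul_sum]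
      rw [sum_sum_chi_mul]; ring
    simp only [hf] at h1
    simp only [hsig] at h1
    apply Complex.ofReal_injective
    push_cast [hN]
    rw [← h1, mul_sum]
    refine sum_congr rfl fun a _ => ?_
    rw [mul_sum]
    refine sum_congr rfl fun b _ => ?_
    split_ifs <;> simp
  have e2 : ∑ i ∈ B0 p G, s i ^ 2 = n * (k * q) := by
    have h1 : ∑ a ∈ DD p G, ∑ i ∈ B0 p G, sig p i * chi i a = ∑ i ∈ B0 p G, sig p i ^ 2 := by
      rw [sum_comm]
      exact sum_congr rfl fun i _ => by rw [← mul_sum, sq]; rfl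
    have h2 : ∀ a ∈ DD p G, ∑ i ∈ B0 p G, sig p i * chi i a = k * q := fun a ha => by
      rw [hf, if_pos ⟨a, mem_DD.1 ha, .refl a⟩]
    rw [sum_congr rfl h2, sum_const, nsmul_eq_mul] at h1
    simp only [hsig] at h1
    rw [hn]
    exact_mod_cast h1.symm
  have e3 : ∑ i ∈ B0 p G, s i * deg i = 0 := by
    have h1 := hf 1
    rw [if_neg] at h1
    · simp only [hsig, chi_one] at h1
      exact_mod_cast h1
    · rintro ⟨z, hz, h⟩
      exact pSec_one_iff.1 h.symm (by rw [hz])
  rw [← add_sum_erase _ _ triv_mem_B0, hst] at e1 e2 e3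
  rw [deg_triv, Nat.cast_one] at e1 e3
  have hp' : (3 : ℝ) ≤ p := by exact_mod_cast hp3
  have hneg : ∃ i ∈ (B0 p G).erase (triv G), s i < 0 := by
    by_contra hc
    push Not at hc
    have := sum_nonneg fun i hi => mul_nonneg (hc i hi) (hd i).le
    linarith
  have hlt : ∑ i ∈ (B0 p G).erase (triv G), 2 * ((p : ℝ) - 1) * (s i ^ 3 / deg i) <
      ∑ i ∈ (B0 p G).erase (triv G), ((p : ℝ) - 2) * n * s i ^ 2 := by
    apply sum_lt_sum
    · intro i hi
      rw [mem_erase] at hi
      have h1 := hb i hi.2 hi.1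
      rw [← mul_div_assoc, div_le_iff₀ (hd i)]
      have h2 := mul_le_mul_of_nonneg_right h1 (sq_nonneg (s i))
      calc _ = 2 * ((p : ℝ) - 1) * s i * s i ^ 2 := by ring
        _ ≤ _ := h2
        _ = _ := by ring
    · obtain ⟨i, hi, h0⟩ := hneg
      refine ⟨i, hi, ?_⟩
      have h1 : s i ^ 3 / deg i < 0 := div_neg_of_neg_of_pos (Odd.pow_neg (by decide) h0) (hd i)
      have h2 : 0 ≤ ((p : ℝ) - 2) * n * s i ^ 2 :=
        mul_nonneg (mul_nonneg (by linarith) hn0.le) (sq_nonneg _)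
      have h3 : (0 : ℝ) < 2 * (p - 1) := by linarith
      exact (mul_neg_of_pos_of_neg h3 h1).trans_le h2
  rw [← mul_sum, ← mul_sum] at hlt
  have hc := count_ge hpair
  rw [← hN, ← hn] at hc
  have hkq : (0 : ℝ) ≤ k * q := by positivity
  have h1 := mul_le_mul_of_nonneg_left hc hkq
  have h2 : ∑ i ∈ (B0 p G).erase (triv G), s i ^ 3 / deg i = k * q * N - n ^ 3 := by linarith
  have h3 : ∑ i ∈ (B0 p G).erase (triv G), s i ^ 2 = n * (k * q) - n ^ 2 := by linarith
  rw [h2, h3] at hlt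
  have h4 : n ^ 2 * (k * q * (p - 2)) < n ^ 2 * (n * p) := by linarith
  exact lt_of_mul_lt_mul_left h4 (sq_nonneg n)

end Chars

end Cfsg.Agent.Lib.Char.Pair
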